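import Mathlib
import Cfsg.Agent.ClassicalGeometry.Sp4GraphAut
import Cfsg.Agent.S0765

/-!
# Generating pairs in `Sp_4(2^f).⟨γ⟩` (helper875, S4180, row C7)

`cj : Sp_4(F) →* Γ` is a homomorphism and `γ : Γ` induces the graph automorphism `graphHom F`.  For every `k` there
are `A`, `B` such that `⟨cj A, cj B * γ ^ k⟩` contains the range of `cj`.
-/

set_option autoImplicit false
set_option linter.unusedSectionVars false

namespace Cfsg.Agent.H875.DG.SpCore

open Matrix Cfsg Subgroup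
open Cfsg.Agent.ClassicalGeometry.Sp4Graph Cfsg.Agent.ClassicalGeometry.SympBasic
open Cfsg.Agent.ClassicalGeometry.Sp4GraphAut

variable {F : Type*} [Field F] [CharP F 2]

/-- vectors by coordinates -/
def v4 (p q r s : F) : I4 → F := Sum.elim ![p, q] ![r, s]

@[simp] theorem v4_0 (p q r s : F) : v4 p q r s (Sum.inl 0) = p := rfl
@[simp] theorem v4_1 (p q r s : F) : v4 p q r s (Sum.inl 1) = q := rfl
@[simp] theorem v4_2 (p q r s : F) : v4 p q r s (Sum.inr 0) = r := rfl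
@[simp] theorem v4_3 (p q r s : F) : v4 p q r s (Sum.inr 1) = s := rfl

theorem ext4 {x y : I4 → F} (h0 : x (.inl 0) = y (.inl 0)) (h1 : x (.inl 1) = y (.inl 1))
    (h2 : x (.inr 0) = y (.inr 0)) (h3 : x (.inr 1) = y (.inr 1)) : x = y := by
  funext i
  rcases i with i | i <;> fin_cases i
  · exact h0
  · exact h1
  · exact h2
  · exact h3

theorem eq_v4 (x : I4 → F) : x = v4 (x (.inl 0)) (x (.inl 1)) (x (.inr 0)) (x (.inr 1)) :=
  ext4 rfl rfl rfl rfl

theorem sp_ext {A B : Matrix.symplecticGroup (Fin 2) F}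
    (h : ∀ x : I4 → F, (A : Matrix I4 I4 F) *ᵥ x = (B : Matrix I4 I4 F) *ᵥ x) : A = B :=
  Subtype.ext (Matrix.mulVec_injective.eq_iff.1 (funext h))

/-! ### the elements -/

/-- diagonal matrices -/
def dg (a b : Fˣ) : Matrix.symplecticGroup (Fin 2) F :=
  ⟨Matrix.diagonal (v4 (a : F) (b : F) ((a⁻¹ : Fˣ) : F) ((b⁻¹ : Fˣ) : F)), by
    apply mem_of_row_rel
    intro i j
    rcases i with i | i <;> rcases j with j | j <;> fin_cases i <;> fin_cases j <;> simp⟩

theorem dg_mulVec (a b : Fˣ) (x : I4 → F) : (dg a b : Matrix I4 I4 F) *ᵥ x =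
    v4 (a * x (.inl 0)) (b * x (.inl 1)) (((a⁻¹ : Fˣ) : F) * x (.inr 0)) (((b⁻¹ : Fˣ) : F) * x (.inr 1)) := by
  unfold dg
  apply ext4 <;> simp [Matrix.mulVec_diagonal]

/-- the rotation -/
def wm : Matrix.symplecticGroup (Fin 2) F :=
  ⟨Matrix.of (Sum.elim ![v4 0 0 0 1, v4 1 0 0 0] ![v4 0 1 0 0, v4 0 0 1 0]), by
    apply mem_of_row_rel
    intro i j
    rcases i with i | i <;> rcases j with j | j <;> fin_cases i <;> fin_cases j <;> simp⟩

theorem wm_mulVec (x : I4 → F) : ((wm : Matrix.symplecticGroup (Fin 2) F) : Matrix I4 I4 F) *ᵥ x =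
    v4 (x (.inr 1)) (x (.inl 0)) (x (.inl 1)) (x (.inr 0)) := by
  unfold wm
  apply ext4 <;> simp [mulVec_eq]

/-- the reflection in the second long root -/
def pm : Matrix.symplecticGroup (Fin 2) F :=
  ⟨Matrix.of (Sum.elim ![v4 1 0 0 0, v4 0 0 0 1] ![v4 0 0 1 0, v4 0 1 0 0]), by
    apply mem_of_row_rel
    intro i j
    rcases i with i | i <;> rcases j with j | j <;> fin_cases i <;> fin_cases j <;> simp⟩

theorem pm_mulVec (x : I4 → F) : ((pm : Matrix.symplecticGroup (Fin 2) F) : Matrix I4 I4 F) *ᵥ x =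
    v4 (x (.inl 0)) (x (.inr 1)) (x (.inr 0)) (x (.inl 1)) := by
  unfold pm
  apply ext4 <;> simp [mulVec_eq]

/-- the reflection in a short root -/
def rm : Matrix.symplecticGroup (Fin 2) F :=
  ⟨Matrix.of (Sum.elim ![v4 0 1 0 0, v4 1 0 0 0] ![v4 0 0 0 1, v4 0 0 1 0]), by
    apply mem_of_row_rel
    intro i j
    rcases i with i | i <;> rcases j with j | j <;> fin_cases i <;> fin_cases j <;> simp⟩

theorem rm_mulVec (x : I4 → F) : ((rm : Matrix.symplecticGroup (Fin 2) F) : Matrix I4 I4 F) *ᵥ x =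
    v4 (x (.inl 1)) (x (.inl 0)) (x (.inr 1)) (x (.inr 0)) := by
  unfold rm
  apply ext4 <;> simp [mulVec_eq]

theorem transv_mulVec (v x : I4 → F) (c : F) : (transv v c : Matrix I4 I4 F) *ᵥ x =
    x + (c * sympForm 2 F x v) • v := by
  rw [coe_transv, sympTransvection_mulVec]

theorem e1_eq : e1 F = v4 1 0 0 0 := by
  apply ext4 <;> simp [e1]

theorem e2_eq : e2 F = v4 0 1 0 0 := by
  apply ext4 <;> simp [e2]

theorem S_mv (b : F) (x : I4 → F) : (S b : Matrix I4 I4 F) *ᵥ x =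
    v4 (x (.inl 0) + b * x (.inr 1)) (x (.inl 1) + b * x (.inr 0)) (x (.inr 0)) (x (.inr 1)) := by
  rw [S_mulVec, e1_eq, e2_eq]
  apply ext4 <;> simp

theorem t_mv (c : F) (x : I4 → F) : (transv (v4 1 0 0 0) c : Matrix I4 I4 F) *ᵥ x =
    v4 (x (.inl 0) + c * x (.inr 0)) (x (.inl 1)) (x (.inr 0)) (x (.inr 1)) := by
  rw [transv_mulVec, sympForm_eq]
  apply ext4 <;> simp


theorem transv_v4 (p q r s p' q' r' s' c : F) : (transv (v4 p q r s) c : Matrix I4 I4 F) *ᵥ (v4 p' q' r' s') =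
    v4 (p' + c * (p' * r + r' * p + q' * s + s' * q) * p) (q' + c * (p' * r + r' * p + q' * s + s' * q) * q)
      (r' + c * (p' * r + r' * p + q' * s + s' * q) * r) (s' + c * (p' * r + r' * p + q' * s + s' * q) * s) := by
  rw [transv_mulVec, sympForm_eq]
  apply ext4 <;> simp

/-! ### the graph homomorphism -/

theorem graph_dg (a b : Fˣ) : graphHom F (dg a b) = dg (a * b) (a * b⁻¹) := by
  apply Subtype.ext
  rw [graphHom_coe]
  unfold dg
  ext i j
  rw [mn_apply]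
  rcases i with i | i <;> rcases j with j | j <;> fin_cases i <;> fin_cases j <;>
    simp [pa, pb, mul_comm]

theorem graph_pm : graphHom F pm = rm := by
  apply Subtype.ext
  rw [graphHom_coe]
  unfold pm rm
  ext i j
  rw [mn_apply]
  rcases i with i | i <;> rcases j with j | j <;> fin_cases i <;> fin_cases j <;>
    simp [pa, pb]

/-- the powers of the field automorphism -/
def fr : ℕ → Matrix.symplecticGroup (Fin 2) F → Matrix.symplecticGroup (Fin 2) F
  | 0, A => A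
  | j + 1, A => fr j (graphHom F (graphHom F A))

theorem fr_coe (j : ℕ) (A : Matrix.symplecticGroup (Fin 2) F) (i k : I4) :
    (fr j A : Matrix I4 I4 F) i k = (A : Matrix I4 I4 F) i k ^ (2 ^ j) := by
  induction j generalizing A with
  | zero => rw [pow_zero, pow_one]; rfl
  | succ j ih =>
    change (fr j (graphHom F (graphHom F A)) : Matrix I4 I4 F) i k = _
    rw [ih, graphHom_graphHom, ← pow_mul, ← pow_succ']

theorem fr_dg (j : ℕ) (a b : Fˣ) : fr j (dg a b) = dg (a ^ (2 ^ j)) (b ^ (2 ^ j)) := by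
  apply Subtype.ext
  ext i k
  rw [fr_coe]
  have h0 : (2 : ℕ) ^ j ≠ 0 := by positivity
  unfold dg
  rcases i with i | i <;> rcases k with k | k <;> fin_cases i <;> fin_cases k <;>
    simp

/-- the action of the field automorphism on vectors -/
def frv (j : ℕ) (v : I4 → F) : I4 → F := fun i => v i ^ (2 ^ j)

theorem fr_transv (j : ℕ) (v : I4 → F) (c : F) : fr j (transv v c) = transv (frv j v) (c ^ (2 ^ j)) := by
  have h0 : (2 : ℕ) ^ j ≠ 0 := by positivity
  have hneg : ∀ z : F, -z = z := fun z => CharTwo.neg_eq z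
  apply Subtype.ext
  ext i k
  rw [fr_coe, coe_transv, coe_transv, sympTransvection_def, sympTransvection_def]
  simp only [Matrix.add_apply, Matrix.smul_apply, Matrix.vecMulVec_apply, smul_eq_mul]
  rw [← iterateFrobenius_def (p := 2), map_add, map_mul, map_mul]
  congr 1
  · rw [iterateFrobenius_def, Matrix.one_apply]
    split_ifs
    · rw [one_pow]
    · rw [zero_pow h0]
  · rw [iterateFrobenius_def, iterateFrobenius_def, iterateFrobenius_def]
    rcases k with k | k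
    · rw [J_mulVec_inl, J_mulVec_inl, hneg, hneg]
      rfl
    · rw [J_mulVec_inr, J_mulVec_inr]
      rfl

theorem frv_v4 (j : ℕ) (p q r s : F) : frv j (v4 p q r s) =
    v4 (p ^ (2 ^ j)) (q ^ (2 ^ j)) (r ^ (2 ^ j)) (s ^ (2 ^ j)) := by
  apply ext4 <;> rfl

/-! ### relations -/

theorem wm_dg (a b : Fˣ) : wm * dg a b = dg b⁻¹ a * wm := by
  apply sp_ext
  intro x
  rw [coe_mul_mulVec, coe_mul_mulVec, dg_mulVec, wm_mulVec, wm_mulVec, dg_mulVec]
  apply ext4 <;> simp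

theorem pm_dg (a b : Fˣ) : pm * dg a b = dg a b⁻¹ * pm := by
  apply sp_ext
  intro x
  rw [coe_mul_mulVec, coe_mul_mulVec, dg_mulVec, pm_mulVec, pm_mulVec, dg_mulVec]
  apply ext4 <;> simp

theorem pm_sq : (pm * pm : Matrix.symplecticGroup (Fin 2) F) = 1 := by
  apply sp_ext
  intro x
  rw [coe_mul_mulVec, pm_mulVec, pm_mulVec]
  change _ = (1 : Matrix I4 I4 F) *ᵥ x
  rw [Matrix.one_mulVec]
  apply ext4 <;> simp

/-- the unipotent element of the even case -/
def ue : Matrix.symplecticGroup (Fin 2) F := transv (v4 1 0 0 0) 1 * S 1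

theorem ue_mv (x : I4 → F) : ((ue : Matrix.symplecticGroup (Fin 2) F) : Matrix I4 I4 F) *ᵥ x =
    v4 (x (.inl 0) + x (.inr 1) + x (.inr 0)) (x (.inl 1) + x (.inr 0)) (x (.inr 0)) (x (.inr 1)) := by
  unfold ue
  rw [coe_mul_mulVec, S_mv, t_mv]
  apply ext4 <;> simp

theorem ue_sq : (ue * ue : Matrix.symplecticGroup (Fin 2) F) = 1 := by
  have h2 : (2 : F) = 0 := CharTwo.two_eq_zero
  apply sp_ext
  intro x
  rw [coe_mul_mulVec, ue_mv, ue_mv]
  change _ = (1 : Matrix I4 I4 F) *ᵥ x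
  rw [Matrix.one_mulVec]
  apply ext4 <;> simp <;> grind

theorem even_rel (a b : Fˣ) : dg a a⁻¹ * (ue * (dg b b * ue)) =
    transv (v4 1 0 0 0) (((a : F) ^ 2 + 1) * ((b : F) ^ 2 + 1)) * ((ue * (dg b b * ue)) * dg a a⁻¹) := by
  have h2 : (2 : F) = 0 := CharTwo.two_eq_zero
  have ha : (a : F) * ((a⁻¹ : Fˣ) : F) = 1 := by rw [← Units.val_mul, mul_inv_cancel, Units.val_one]
  have hb : (b : F) * ((b⁻¹ : Fˣ) : F) = 1 := by rw [← Units.val_mul, mul_inv_cancel, Units.val_one]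
  apply sp_ext
  intro x
  simp only [coe_mul_mulVec, dg_mulVec, ue_mv, t_mv, v4_0, v4_1, v4_2, v4_3, inv_inv]
  set a' : F := ((a⁻¹ : Fˣ) : F)
  set b' : F := ((b⁻¹ : Fˣ) : F)
  set A : F := (a : F)
  set B : F := (b : F)
  apply ext4 <;> simp only [v4_0, v4_1, v4_2, v4_3] <;> grind


/-- the unipotent element of the odd case -/
theorem t_sq : (transv (v4 1 0 0 0) 1 * transv (v4 1 0 0 0) 1 : Matrix.symplecticGroup (Fin 2) F) = 1 := by
  have h2 : (2 : F) = 0 := CharTwo.two_eq_zero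
  apply sp_ext
  intro x
  rw [coe_mul_mulVec, t_mv, t_mv]
  change _ = (1 : Matrix I4 I4 F) *ᵥ x
  rw [Matrix.one_mulVec]
  apply ext4 <;> simp <;> grind

theorem odd_rel (a b : Fˣ) :
    dg a 1 * (transv (v4 1 0 0 0) 1 * (dg b b⁻¹ * transv (v4 1 0 0 0) 1)) =
    transv (v4 1 0 0 0) (((a : F) ^ 2 + 1) * ((b : F) ^ 2 + 1)) *
      ((transv (v4 1 0 0 0) 1 * (dg b b⁻¹ * transv (v4 1 0 0 0) 1)) * dg a 1) := by
  have h2 : (2 : F) = 0 := CharTwo.two_eq_zero
  have ha : (a : F) * ((a⁻¹ : Fˣ) : F) = 1 := by rw [← Units.val_mul, mul_inv_cancel, Units.val_one]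
  have hb : (b : F) * ((b⁻¹ : Fˣ) : F) = 1 := by rw [← Units.val_mul, mul_inv_cancel, Units.val_one]
  apply sp_ext
  intro x
  simp only [coe_mul_mulVec, dg_mulVec, t_mv, v4_0, v4_1, v4_2, v4_3, inv_inv, inv_one, Units.val_one, one_mul]
  set a' : F := ((a⁻¹ : Fˣ) : F)
  set b' : F := ((b⁻¹ : Fˣ) : F)
  set A : F := (a : F)
  set B : F := (b : F)
  apply ext4 <;> simp only [v4_0, v4_1, v4_2, v4_3] <;> grind

theorem transv_e_mem_of [Finite F] {H : Subgroup (Matrix.symplecticGroup (Fin 2) F)} {a b : Fˣ}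
    (ha : ∀ x : Fˣ, x ∈ Subgroup.zpowers a) (hd : dg a b ∈ H) {c0 : F} (hc0 : c0 ≠ 0)
    (h0 : transv (v4 1 0 0 0) c0 ∈ H) (c : F) : transv (v4 1 0 0 0) c ∈ H := by
  -- conjugation by the powers of `dg a b`
  have hc : ∀ (a b : Fˣ) (c : F), dg a b * transv (v4 1 0 0 0) c * (dg a b)⁻¹ =
      transv (v4 1 0 0 0) ((a : F) ^ 2 * c) := by
    intro a b c
    rw [mul_inv_eq_iff_eq_mul]
    have ha : (a : F) * ((a⁻¹ : Fˣ) : F) = 1 := by rw [← Units.val_mul, mul_inv_cancel, Units.val_one]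
    apply sp_ext
    intro x
    simp only [coe_mul_mulVec, dg_mulVec, t_mv, v4_0, v4_1, v4_2, v4_3]
    set a' : F := ((a⁻¹ : Fˣ) : F)
    apply ext4 <;> simp only [v4_0, v4_1, v4_2, v4_3] <;> grind
  have hmul : ∀ a b c d : Fˣ, dg a b * dg c d = dg (a * c) (b * d) := by
    intro a b c d
    apply sp_ext
    intro x
    simp only [coe_mul_mulVec, dg_mulVec, v4_0, v4_1, v4_2, v4_3, mul_inv, Units.val_mul]
    apply ext4 <;> simp only [v4_0, v4_1, v4_2, v4_3] <;> ring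
  have hone : (dg 1 1 : Matrix.symplecticGroup (Fin 2) F) = 1 := by
    apply sp_ext
    intro x
    rw [dg_mulVec]
    change _ = (1 : Matrix I4 I4 F) *ᵥ x
    rw [Matrix.one_mulVec]
    apply ext4 <;> simp
  let D : Fˣ × Fˣ →* Matrix.symplecticGroup (Fin 2) F :=
    { toFun := fun p => dg p.1 p.2
      map_one' := hone
      map_mul' := fun p q => (hmul p.1 p.2 q.1 q.2).symm }
  have hz : ∀ n : ℤ, dg (a ^ n) (b ^ n) ∈ H := by
    intro n
    have h1 : D ((a, b) ^ n) = (D (a, b)) ^ n := map_zpow D (a, b) n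
    have h2 : D ((a, b) ^ n) = dg (a ^ n) (b ^ n) := rfl
    rw [← h2, h1]
    exact H.zpow_mem hd n
  by_cases hcz : c = 0
  · have : transv (v4 1 0 0 0) c = (1 : Matrix.symplecticGroup (Fin 2) F) := by
      rw [hcz]
      exact Subtype.ext (sympTransvection_zero _)
    rw [this]
    exact H.one_mem
  · obtain ⟨t, ht⟩ := FiniteField.isSquare_of_char_two (ringChar.eq F 2) (c / c0)
    have ht0 : t ≠ 0 := by
      rintro rfl
      rw [mul_zero, div_eq_zero_iff] at ht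
      exact ht.elim hcz hc0
    obtain ⟨n, hn⟩ := ha (Units.mk0 t ht0)
    have hn' : ((a ^ n : Fˣ) : F) = t := congrArg Units.val hn
    have h1 := H.mul_mem (H.mul_mem (hz n) h0) (H.inv_mem (hz n))
    rw [hc, hn'] at h1
    have h2 : t ^ 2 * c0 = c := by
      rw [sq, ← ht, div_mul_cancel₀ _ hc0]
    rwa [h2] at h1

/-! ### all transvections -/

theorem pair_move {R : F → F → Prop} (h1 : ∀ p r c, R p r → R (p + c * r) r)
    (h2 : ∀ p r c, R p r → R p (r + c * p)) {p0 r0 : F} (h0 : R p0 r0) (hn : p0 ≠ 0 ∨ r0 ≠ 0) {p r : F}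
    (hpr : p ≠ 0 ∨ r ≠ 0) : R p r := by
  -- reach a pair with nonzero second entry
  obtain ⟨p1, r1, hr1, hR1⟩ : ∃ p1 r1, r1 ≠ 0 ∧ R p1 r1 := by
    by_cases hr0 : r0 = 0
    · have hp0 : p0 ≠ 0 := hn.resolve_right (fun h => h hr0)
      refine ⟨p0, r0 + p0⁻¹ * p0, ?_, h2 _ _ _ h0⟩
      rw [hr0, inv_mul_cancel₀ hp0, zero_add]
      exact one_ne_zero
    · exact ⟨p0, r0, hr0, h0⟩
  have hone : R 1 r1 := by
    have := h1 _ _ ((1 - p1) / r1) hR1
    rwa [div_mul_cancel₀ _ hr1, add_sub_cancel] at this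
  have hone' : ∀ r, R 1 r := by
    intro r
    have := h2 _ _ (r - r1) hone
    rwa [mul_one, add_sub_cancel] at this
  have hall : ∀ p r, r ≠ 0 → R p r := by
    intro p r hr
    have := h1 _ _ ((p - 1) / r) (hone' r)
    rwa [div_mul_cancel₀ _ hr, add_sub_cancel] at this
  by_cases hr : r = 0
  · have hp : p ≠ 0 := hpr.resolve_right (fun h => h hr)
    have := h2 _ _ (-p⁻¹) (hall p 1 one_ne_zero)
    rw [neg_mul, inv_mul_cancel₀ hp, add_neg_cancel] at this
    rwa [hr]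
  · exact hall p r hr

theorem x_conj {H : Subgroup (Matrix.symplecticGroup (Fin 2) F)} {g : Matrix.symplecticGroup (Fin 2) F} (hg : g ∈ H)
    {v : I4 → F} (hv : ∀ c : F, transv v c ∈ H) (c : F) : transv ((g : Matrix I4 I4 F) *ᵥ v) c ∈ H := by
  have h1 := H.mul_mem (H.mul_mem hg (hv c)) (H.inv_mem hg)
  have h2 : g * transv v c * g⁻¹ = transv ((g : Matrix I4 I4 F) *ᵥ v) c := by
    rw [mul_inv_eq_iff_eq_mul]
    exact Subtype.ext (mul_sympTransvection g.2 v c)
  rwa [h2] at h1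

/-- moves in the second plane -/
theorem planeB {H : Subgroup (Matrix.symplecticGroup (Fin 2) F)}
    (h1 : ∀ c : F, transv (v4 0 1 0 0) c ∈ H)
    (h3 : ∀ c : F, transv (v4 0 0 0 1) c ∈ H) {q0 s0 : F} (p r : F)
    (hv : ∀ c : F, transv (v4 p q0 r s0) c ∈ H) (hn : q0 ≠ 0 ∨ s0 ≠ 0)
    (q s : F) (hqs : q ≠ 0 ∨ s ≠ 0) : ∀ c : F, transv (v4 p q r s) c ∈ H := by
  have mv1 : ∀ (c : F) (x : I4 → F), (transv (v4 0 1 0 0) c : Matrix I4 I4 F) *ᵥ x =
      v4 (x (.inl 0)) (x (.inl 1) + c * x (.inr 1)) (x (.inr 0)) (x (.inr 1)) := by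
    intro c x
    rw [transv_mulVec, sympForm_eq]
    apply ext4 <;> simp
  have mv3 : ∀ (c : F) (x : I4 → F), (transv (v4 0 0 0 1) c : Matrix I4 I4 F) *ᵥ x =
      v4 (x (.inl 0)) (x (.inl 1)) (x (.inr 0)) (x (.inr 1) + c * x (.inl 1)) := by
    intro c x
    rw [transv_mulVec, sympForm_eq]
    apply ext4 <;> simp
  refine pair_move (R := fun q s => ∀ c : F, transv (v4 p q r s) c ∈ H) ?_ ?_ hv hn hqs
  · intro q s d h c
    have := x_conj (h1 d) h c
    rw [mv1] at this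
    simpa using this
  · intro q s d h c
    have := x_conj (h3 d) h c
    rw [mv3] at this
    simpa using this

/-- moves in the first plane -/
theorem planeA {H : Subgroup (Matrix.symplecticGroup (Fin 2) F)}
    (h0 : ∀ c : F, transv (v4 1 0 0 0) c ∈ H)
    (h2 : ∀ c : F, transv (v4 0 0 1 0) c ∈ H) {p0 r0 : F} (q s : F)
    (hv : ∀ c : F, transv (v4 p0 q r0 s) c ∈ H) (hn : p0 ≠ 0 ∨ r0 ≠ 0)
    (p r : F) (hpr : p ≠ 0 ∨ r ≠ 0) : ∀ c : F, transv (v4 p q r s) c ∈ H := by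
  have mv2 : ∀ (c : F) (x : I4 → F), (transv (v4 0 0 1 0) c : Matrix I4 I4 F) *ᵥ x =
      v4 (x (.inl 0)) (x (.inl 1)) (x (.inr 0) + c * x (.inl 0)) (x (.inr 1)) := by
    intro c x
    rw [transv_mulVec, sympForm_eq]
    apply ext4 <;> simp
  refine pair_move (R := fun p r => ∀ c : F, transv (v4 p q r s) c ∈ H) ?_ ?_ hv hn hpr
  · intro p r d h c
    have := x_conj (h0 d) h c
    rw [t_mv] at this
    simpa using this
  · intro p r d h c
    have := x_conj (h2 d) h c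
    rw [mv2] at this
    simpa using this

/-- If the transvections in the directions of the basis vectors and of one mixed vector are in `H` then `H = ⊤`. -/
theorem top_of {H : Subgroup (Matrix.symplecticGroup (Fin 2) F)} (h0 : ∀ c : F, transv (v4 1 0 0 0) c ∈ H)
    (h1 : ∀ c : F, transv (v4 0 1 0 0) c ∈ H) (h2 : ∀ c : F, transv (v4 0 0 1 0) c ∈ H)
    (h3 : ∀ c : F, transv (v4 0 0 0 1) c ∈ H) {p0 q0 r0 s0 : F} (hp : p0 ≠ 0 ∨ r0 ≠ 0) (hq : q0 ≠ 0 ∨ s0 ≠ 0)
    (hm : ∀ c : F, transv (v4 p0 q0 r0 s0) c ∈ H) : H = ⊤ := by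
  have key : ∀ (v : I4 → F) (c : F), transv v c ∈ H := by
    intro v
    rw [eq_v4 v]
    generalize v (.inl 0) = p
    generalize v (.inl 1) = q
    generalize v (.inr 0) = r
    generalize v (.inr 1) = s
    by_cases hpr : p ≠ 0 ∨ r ≠ 0
    · by_cases hqs : q ≠ 0 ∨ s ≠ 0
      · exact planeB h1 h3 p r (planeA h0 h2 q0 s0 hm hp p r hpr) hq q s hqs
      · push Not at hqs
        obtain ⟨rfl, rfl⟩ := hqs
        exact planeA h0 h2 0 0 h0 (Or.inl one_ne_zero) p r hpr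
    · push Not at hpr
      obtain ⟨rfl, rfl⟩ := hpr
      by_cases hqs : q ≠ 0 ∨ s ≠ 0
      · exact planeB h1 h3 0 0 h1 (Or.inl one_ne_zero) q s hqs
      · push Not at hqs
        obtain ⟨rfl, rfl⟩ := hqs
        intro c
        have : transv (v4 0 0 0 0) c = (1 : Matrix.symplecticGroup (Fin 2) F) := by
          apply sp_ext
          intro x
          rw [transv_mulVec]
          change _ = (1 : Matrix I4 I4 F) *ᵥ x
          rw [Matrix.one_mulVec]
          apply ext4 <;> simp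
        rw [this]
        exact H.one_mem
  rw [eq_top_iff, ← Cfsg.Agent.S0765.result (F := F) 2, closure_le]
  rintro A ⟨w, c, hA⟩
  have : A = transv w c := Subtype.ext hA
  rw [this]
  exact key w c


/-! ### the abstract setting -/

section abstr

variable {Γ : Type*} [Group Γ] (cj : Matrix.symplecticGroup (Fin 2) F →* Γ) (γ : Γ)

include cj

theorem conj_even (hγ : ∀ A, γ * cj A * γ⁻¹ = cj (graphHom F A)) (j : ℕ) (A : Matrix.symplecticGroup (Fin 2) F) :
    γ ^ (2 * j) * cj A * (γ ^ (2 * j))⁻¹ = cj (fr j A) := by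
  induction j generalizing A with
  | zero => simp [fr]
  | succ j ih =>
    have h1 : γ ^ (2 * (j + 1)) = γ ^ (2 * j) * (γ * γ) := by rw [← sq, ← pow_add, mul_add, mul_one]
    rw [h1]
    change _ = cj (fr j (graphHom F (graphHom F A)))
    rw [← ih, ← hγ, ← hγ]
    group

/-- moving the set of good vectors with a semilinear element -/
theorem x_semi [Finite F] (hγ : ∀ A, γ * cj A * γ⁻¹ = cj (graphHom F A)) {M : Subgroup Γ} {j : ℕ}
    {g : Matrix.symplecticGroup (Fin 2) F} (hg : cj g * γ ^ (2 * j) ∈ M) {v : I4 → F}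
    (hv : ∀ c : F, transv v c ∈ M.comap cj) (c : F) :
    transv ((g : Matrix I4 I4 F) *ᵥ (frv j v)) c ∈ M.comap cj := by
  obtain ⟨d, hd⟩ : ∃ d : F, d ^ (2 ^ j) = c := by
    have h1 : Function.Surjective (iterateFrobenius F 2 j) :=
      Finite.injective_iff_surjective.1 (iterateFrobenius F 2 j).injective
    obtain ⟨d, hd⟩ := h1 c
    exact ⟨d, by rwa [iterateFrobenius_def] at hd⟩
  have h1 := M.mul_mem (M.mul_mem hg (mem_comap.1 (hv d))) (M.inv_mem hg)
  have h2 : cj g * γ ^ (2 * j) * cj (transv v d) * (cj g * γ ^ (2 * j))⁻¹ =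
      cj (transv ((g : Matrix I4 I4 F) *ᵥ (frv j v)) c) := by
    have h3 : cj g * γ ^ (2 * j) * cj (transv v d) * (cj g * γ ^ (2 * j))⁻¹ =
        cj g * (γ ^ (2 * j) * cj (transv v d) * (γ ^ (2 * j))⁻¹) * (cj g)⁻¹ := by group
    rw [h3, conj_even cj γ hγ, fr_transv, hd, ← map_inv, ← map_mul, ← map_mul]
    congr 1
    rw [mul_inv_eq_iff_eq_mul]
    exact Subtype.ext (mul_sympTransvection g.2 _ c)
  rw [h2] at h1
  exact mem_comap.2 h1

theorem two_ne [Fintype F] (h3 : 3 ≤ Fintype.card F) {a : Fˣ} (ha : ∀ x : Fˣ, x ∈ Subgroup.zpowers a) (j : ℕ) :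
    (a : F) ^ 2 + 1 ≠ 0 ∧ ((a ^ (2 ^ j) : Fˣ) : F) ^ 2 + 1 ≠ 0 := by
  classical
  have hneg : ∀ z : F, -z = z := fun z => CharTwo.neg_eq z
  -- `a ≠ 1`
  have ha1 : a ≠ 1 := by
    rintro rfl
    have h1 : Fintype.card Fˣ ≤ 1 := by
      rw [Fintype.card_le_one_iff]
      intro x y
      have hx := ha x
      have hy := ha y
      rw [Subgroup.zpowers_one_eq_bot, Subgroup.mem_bot] at hx hy
      rw [hx, hy]
    rw [Fintype.card_units] at h1
    omega
  have hsq : ∀ b : Fˣ, b ≠ 1 → (b : F) ^ 2 + 1 ≠ 0 := by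
    intro b hb h0
    apply hb
    have h1 : (b : F) ^ 2 = 1 ^ 2 := by
      rw [one_pow, ← hneg 1]
      exact eq_neg_of_add_eq_zero_left h0
    exact Units.ext (CharTwo.sq_injective h1)
  refine ⟨hsq a ha1, hsq _ ?_⟩
  intro h0
  apply ha1
  have h1 : iterateFrobenius F 2 j (a : F) = iterateFrobenius F 2 j 1 := by
    rw [iterateFrobenius_def, iterateFrobenius_def, one_pow]
    have h2 := congrArg Units.val h0
    rwa [Units.val_pow_eq_pow_val, Units.val_one] at h2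
  exact Units.ext ((iterateFrobenius F 2 j).injective h1)

/-- The even case. -/
theorem even_case [Fintype F] (h3 : 3 ≤ Fintype.card F) (hγ : ∀ A, γ * cj A * γ⁻¹ = cj (graphHom F A)) (j : ℕ) :
    ∃ A B : Matrix.symplecticGroup (Fin 2) F, cj.range ≤ closure ({cj A, cj B * γ ^ (2 * j)} : Set Γ) := by
  obtain ⟨a, ha⟩ := IsCyclic.exists_generator (α := Fˣ)
  refine ⟨dg a a⁻¹, ue * wm, ?_⟩
  set M : Subgroup Γ := closure ({cj (dg a a⁻¹), cj (ue * wm) * γ ^ (2 * j)} : Set Γ) with hM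
  set H := M.comap cj with hH
  have hh : dg a a⁻¹ ∈ H := mem_comap.2 (subset_closure (by simp))
  have hy : cj (ue * wm) * γ ^ (2 * j) ∈ M := subset_closure (by simp)
  set b : Fˣ := a ^ (2 ^ j) with hb
  have hne := two_ne cj h3 ha j
  -- `u h₁ u ∈ H`
  have hK : ue * (dg b b * ue) ∈ H := by
    have h1 := M.mul_mem (M.mul_mem hy (mem_comap.1 hh)) (M.inv_mem hy)
    have h2 : cj (ue * wm) * γ ^ (2 * j) * cj (dg a a⁻¹) * (cj (ue * wm) * γ ^ (2 * j))⁻¹ =
        cj (ue * (dg b b * ue)) := by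
      have h4 : cj (ue * wm) * γ ^ (2 * j) * cj (dg a a⁻¹) * (cj (ue * wm) * γ ^ (2 * j))⁻¹ =
          cj (ue * wm) * (γ ^ (2 * j) * cj (dg a a⁻¹) * (γ ^ (2 * j))⁻¹) * (cj (ue * wm))⁻¹ := by group
      rw [h4, conj_even cj γ hγ, fr_dg, ← map_inv, ← map_mul, ← map_mul]
      congr 1
      have h5 : wm * dg (a ^ (2 ^ j)) (a⁻¹ ^ (2 ^ j)) = dg b b * wm := by
        rw [wm_dg, inv_pow, inv_inv]
      calc ue * wm * dg (a ^ (2 ^ j)) (a⁻¹ ^ (2 ^ j)) * (ue * wm)⁻¹
          = ue * (wm * dg (a ^ (2 ^ j)) (a⁻¹ ^ (2 ^ j))) * (ue * wm)⁻¹ := by group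
        _ = ue * (dg b b * wm) * (ue * wm)⁻¹ := by rw [h5]
        _ = ue * (dg b b * ue⁻¹) := by group
        _ = ue * (dg b b * ue) := by rw [inv_eq_of_mul_eq_one_left ue_sq]
    rw [h2] at h1
    exact mem_comap.2 h1
  have h0 : ∀ c : F, transv (v4 1 0 0 0) c ∈ H := by
    refine transv_e_mem_of ha hh (mul_ne_zero hne.1 hne.2) ?_
    have h1 := H.mul_mem (H.mul_mem hh hK) (H.inv_mem (H.mul_mem hK hh))
    rw [even_rel a b, mul_assoc, mul_inv_cancel, mul_one] at h1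
    exact h1
  -- the element `σ'`
  have hs : cj (S 1 * wm) * γ ^ (2 * j) ∈ M := by
    have h1 := M.mul_mem (M.inv_mem (mem_comap.1 (h0 1))) hy
    have h2 : (cj (transv (v4 1 0 0 0) 1))⁻¹ * (cj (ue * wm) * γ ^ (2 * j)) = cj (S 1 * wm) * γ ^ (2 * j) := by
      unfold ue
      rw [map_mul, map_mul, map_mul]
      group
    rwa [h2] at h1
  have hstep : ∀ {p q r s : F}, (∀ c : F, transv (v4 p q r s) c ∈ H) → frv j (v4 p q r s) = v4 p q r s →
      ∀ c : F, transv (v4 (s + r) (p + q) q r) c ∈ H := by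
    intro p q r s hv hf c
    have h1 := x_semi cj γ hγ hs hv c
    rw [hf, coe_mul_mulVec, wm_mulVec, S_mv] at h1
    simp only [v4_0, v4_1, v4_2, v4_3, one_mul] at h1
    exact h1
  have hz : (0 : F) ^ (2 ^ j) = 0 := zero_pow (by positivity)
  have h1 : ∀ c : F, transv (v4 0 1 0 0) c ∈ H := by
    have := hstep h0 (by rw [frv_v4, one_pow, hz])
    simpa using this
  have h2 : ∀ c : F, transv (v4 0 1 1 0) c ∈ H := by
    have := hstep h1 (by rw [frv_v4, one_pow, hz])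
    simpa using this
  have h3' : ∀ c : F, transv (v4 1 1 1 1) c ∈ H := by
    have := hstep h2 (by rw [frv_v4, one_pow, hz])
    simpa using this
  have h2' : (1 : F) + 1 = 0 := CharTwo.add_self_eq_zero 1
  have h4 : ∀ c : F, transv (v4 0 0 1 1) c ∈ H := by
    have := hstep h3' (by rw [frv_v4, one_pow])
    simpa [h2'] using this
  have h5 : ∀ c : F, transv (v4 0 0 0 1) c ∈ H := by
    have := hstep h4 (by rw [frv_v4, one_pow, hz])
    simpa [h2'] using this
  -- the remaining basis vector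
  have ha1 : (a : F) + 1 ≠ 0 := by
    intro h0
    apply hne.1
    have h6 : (a : F) ^ 2 + 1 = ((a : F) + 1) ^ 2 := by rw [CharTwo.add_sq, one_pow]
    rw [h6, h0, zero_pow (by norm_num)]
  have h6 : ∀ c : F, transv (v4 0 (a : F) 1 0) c ∈ H :=
    planeB h1 h5 0 1 h2 (Or.inl one_ne_zero) _ _ (Or.inl a.ne_zero)
  have h7 : ∀ c : F, transv (v4 1 1 1 0) c ∈ H := by
    intro c
    have := x_conj (h2 1) h0 c
    rw [transv_v4] at this
    simpa using this
  have h8 : ∀ c : F, transv (v4 1 (1 + (a : F)) 0 0) c ∈ H := by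
    intro c
    have := x_conj (h6 1) h7 c
    rw [transv_v4] at this
    simp only [mul_zero, zero_mul, mul_one, one_mul, add_zero, zero_add, h2'] at this
    exact this
  have h9 : ∀ c : F, transv (v4 1 1 0 0) c ∈ H :=
    planeB h1 h5 1 0 h8 (Or.inl (by rwa [add_comm])) 1 0 (Or.inl one_ne_zero)
  have h10 : ∀ c : F, transv (v4 1 0 1 0) c ∈ H := by
    intro c
    have := x_conj (h9 1) h2 c
    rw [transv_v4] at this
    simpa [h2'] using this
  have h11 : ∀ c : F, transv (v4 0 0 1 0) c ∈ H := by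
    intro c
    have := x_conj (h0 1) h10 c
    rw [t_mv] at this
    simpa [h2'] using this
  have htop : H = ⊤ := top_of h0 h1 h11 h5 (Or.inl one_ne_zero) (Or.inl one_ne_zero) h9
  rintro _ ⟨A, rfl⟩
  have : A ∈ H := by rw [htop]; exact mem_top A
  exact mem_comap.1 this

/-- The odd case. -/
theorem odd_case [Fintype F] (h3 : 3 ≤ Fintype.card F) (hγ : ∀ A, γ * cj A * γ⁻¹ = cj (graphHom F A)) (j : ℕ) :
    ∃ A B : Matrix.symplecticGroup (Fin 2) F, cj.range ≤ closure ({cj A, cj B * γ ^ (2 * j + 1)} : Set Γ) := by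
  obtain ⟨a, ha⟩ := IsCyclic.exists_generator (α := Fˣ)
  refine ⟨dg a 1, transv (v4 1 0 0 0) 1 * pm, ?_⟩
  set M : Subgroup Γ := closure ({cj (dg a 1), cj (transv (v4 1 0 0 0) 1 * pm) * γ ^ (2 * j + 1)} : Set Γ) with hM
  set H := M.comap cj with hH
  have hh : dg a 1 ∈ H := mem_comap.2 (subset_closure (by simp))
  have hy : cj (transv (v4 1 0 0 0) 1 * pm) * γ ^ (2 * j + 1) ∈ M := subset_closure (by simp)
  set b : Fˣ := a ^ (2 ^ j) with hb
  have hne := two_ne cj h3 ha j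
  have hodd : ∀ A, γ ^ (2 * j + 1) * cj A * (γ ^ (2 * j + 1))⁻¹ = cj (fr j (graphHom F A)) := by
    intro A
    rw [← conj_even cj γ hγ, ← hγ, pow_succ]
    group
  set t1 : Matrix.symplecticGroup (Fin 2) F := transv (v4 1 0 0 0) 1 with ht1
  have hK : t1 * (dg b b⁻¹ * t1) ∈ H := by
    have h1 := M.mul_mem (M.mul_mem hy (mem_comap.1 hh)) (M.inv_mem hy)
    have h2 : cj (t1 * pm) * γ ^ (2 * j + 1) * cj (dg a 1) * (cj (t1 * pm) * γ ^ (2 * j + 1))⁻¹ =
        cj (t1 * (dg b b⁻¹ * t1)) := by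
      have h4 : cj (t1 * pm) * γ ^ (2 * j + 1) * cj (dg a 1) * (cj (t1 * pm) * γ ^ (2 * j + 1))⁻¹ =
          cj (t1 * pm) * (γ ^ (2 * j + 1) * cj (dg a 1) * (γ ^ (2 * j + 1))⁻¹) * (cj (t1 * pm))⁻¹ := by group
      rw [h4, hodd, graph_dg, fr_dg, ← map_inv, ← map_mul, ← map_mul]
      congr 1
      have h5 : pm * dg ((a * 1) ^ (2 ^ j)) ((a * 1⁻¹) ^ (2 ^ j)) = dg b b⁻¹ * pm := by
        rw [pm_dg, inv_one, mul_one]
      calc t1 * pm * dg ((a * 1) ^ (2 ^ j)) ((a * 1⁻¹) ^ (2 ^ j)) * (t1 * pm)⁻¹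
          = t1 * (pm * dg ((a * 1) ^ (2 ^ j)) ((a * 1⁻¹) ^ (2 ^ j))) * (t1 * pm)⁻¹ := by group
        _ = t1 * (dg b b⁻¹ * pm) * (t1 * pm)⁻¹ := by rw [h5]
        _ = t1 * (dg b b⁻¹ * t1⁻¹) := by group
        _ = t1 * (dg b b⁻¹ * t1) := by rw [inv_eq_of_mul_eq_one_left t_sq]
    rw [h2] at h1
    exact mem_comap.2 h1
  have h0 : ∀ c : F, transv (v4 1 0 0 0) c ∈ H := by
    refine transv_e_mem_of ha hh (mul_ne_zero hne.1 hne.2) ?_
    have h1 := H.mul_mem (H.mul_mem hh hK) (H.inv_mem (H.mul_mem hK hh))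
    rw [ht1, odd_rel a b, mul_assoc, mul_inv_cancel, mul_one] at h1
    exact h1
  -- the element `σ`
  have hs : cj pm * γ ^ (2 * j + 1) ∈ M := by
    have h1 := M.mul_mem (M.inv_mem (mem_comap.1 (h0 1))) hy
    have h2 : (cj (transv (v4 1 0 0 0) 1))⁻¹ * (cj (t1 * pm) * γ ^ (2 * j + 1)) = cj pm * γ ^ (2 * j + 1) := by
      rw [← ht1, map_mul, ← mul_assoc, ← mul_assoc, inv_mul_cancel, one_mul]
    rwa [h2] at h1
  have hz : ∀ n : ℕ, (0 : F) ^ (2 ^ n) = 0 := fun n => zero_pow (by positivity)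
  -- `σ ^ 2`
  have hs2 : cj (pm * rm) * γ ^ (2 * (2 * j + 1)) ∈ M := by
    have h1 := M.mul_mem hs hs
    have h2 : cj pm * γ ^ (2 * j + 1) * (cj pm * γ ^ (2 * j + 1)) = cj (pm * rm) * γ ^ (2 * (2 * j + 1)) := by
      have h4 : cj pm * γ ^ (2 * j + 1) * (cj pm * γ ^ (2 * j + 1)) =
          cj pm * (γ ^ (2 * j + 1) * cj pm * (γ ^ (2 * j + 1))⁻¹) * (γ ^ (2 * j + 1) * γ ^ (2 * j + 1)) := by group
      have h5 : fr j (rm : Matrix.symplecticGroup (Fin 2) F) = rm := by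
        apply Subtype.ext
        ext i k
        rw [fr_coe]
        unfold rm
        rcases i with i | i <;> rcases k with k | k <;> fin_cases i <;> fin_cases k <;> simp
      rw [h4, hodd, graph_pm, h5, ← map_mul, ← pow_add]
      congr 2
      omega
    rwa [h2] at h1
  have hstep : ∀ {p q r s : F}, (∀ c : F, transv (v4 p q r s) c ∈ H) → frv (2 * j + 1) (v4 p q r s) = v4 p q r s →
      ∀ c : F, transv (v4 q r s p) c ∈ H := by
    intro p q r s hv hf c
    have h1 := x_semi cj γ hγ hs2 hv c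
    rw [hf, coe_mul_mulVec, rm_mulVec, pm_mulVec] at h1
    simp only [v4_0, v4_1, v4_2, v4_3, one_mul] at h1
    exact h1
  have h1 : ∀ c : F, transv (v4 0 0 0 1) c ∈ H := by
    have := hstep h0 (by rw [frv_v4, one_pow, hz])
    simpa using this
  have h2 : ∀ c : F, transv (v4 0 0 1 0) c ∈ H := by
    have := hstep h1 (by rw [frv_v4, one_pow, hz])
    simpa using this
  have h3' : ∀ c : F, transv (v4 0 1 0 0) c ∈ H := by
    have := hstep h2 (by rw [frv_v4, one_pow, hz])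
    simpa using this
  -- the short root element
  have hD : pm * S 1 * pm ∈ H := by
    have h4 := M.mul_mem (M.mul_mem hs (mem_comap.1 (h0 1))) (M.inv_mem hs)
    have h5 : cj pm * γ ^ (2 * j + 1) * cj (transv (v4 1 0 0 0) 1) * (cj pm * γ ^ (2 * j + 1))⁻¹ =
        cj (pm * S 1 * pm) := by
      have h6 : cj pm * γ ^ (2 * j + 1) * cj (transv (v4 1 0 0 0) 1) * (cj pm * γ ^ (2 * j + 1))⁻¹ =
          cj pm * (γ ^ (2 * j + 1) * cj (transv (v4 1 0 0 0) 1) * (γ ^ (2 * j + 1))⁻¹) * (cj pm)⁻¹ := by group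
      have h7 : fr j (S 1 : Matrix.symplecticGroup (Fin 2) F) = S 1 := by
        apply Subtype.ext
        ext i k
        rw [fr_coe, S_coe]
        rcases i with i | i <;> rcases k with k | k <;> fin_cases i <;> fin_cases k <;> simp
      rw [h6, hodd, ← e1_eq, graphHom_transv, h7, ← map_inv, ← map_mul, ← map_mul, inv_eq_of_mul_eq_one_left pm_sq]
    rw [h5] at h4
    exact mem_comap.2 h4
  have h8 : ∀ c : F, transv (v4 0 0 1 1) c ∈ H := by
    intro c
    have := x_conj hD h2 c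
    rw [coe_mul_mulVec, coe_mul_mulVec, pm_mulVec, S_mv, pm_mulVec] at this
    simpa using this
  have htop : H = ⊤ := top_of h0 h3' h2 h1 (Or.inr one_ne_zero) (Or.inr one_ne_zero) h8
  rintro _ ⟨A, rfl⟩
  have : A ∈ H := by rw [htop]; exact mem_top A
  exact mem_comap.1 this

end abstr

end Cfsg.Agent.H875.DG.SpCore
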