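import Cfsg.Agent.H891.DG.Nielsen
import Cfsg.Agent.H183.OutSp4
import Cfsg.Agent.H875.DG.SpCore

/-!
# TEAM GEN, S4180, row C7: `Cos2` for `PSp_4(2^f)`, `f ≥ 2` (helper875)

`cos2_psp4_even` : `Cos2 T` for `T ≅ PSp_4(F)`, `F` a finite field of characteristic 2 with more than two elements.
-/

set_option autoImplicit false

namespace Cfsg.Agent.H875.DG.Sp4Even

open Cfsg.Agent.H440.TwoGen Cfsg.Agent.H891.Gen Cfsg.Agent.H891.DG Cfsg.Agent.H891.DG.Nielsen Subgroup
open Cfsg.Agent.ClassicalGeometry.Sp4Graph Cfsg.Agent.ClassicalGeometry.SympBasic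
open Cfsg.Agent.ClassicalGeometry.Sp4GraphAut
open Cfsg.Agent.H875.DG.SpCore

universe u v

/-- `Cos2` is invariant under isomorphisms. -/
theorem cos2_equiv {S : Type u} {T : Type v} [Group S] [Group T] (e : S ≃* T) (h : Cos2 T) : Cos2 S := by
  intro x y
  obtain ⟨_, ⟨s, rfl⟩, _, ⟨t, rfl⟩, hle⟩ := h (MulAut.congr e x) (MulAut.congr e y)
  have key : ∀ s : S, MulAut.congr e (MulAut.conj s) = MulAut.conj (e s) := by
    intro s
    apply MulEquiv.ext
    intro z
    simp [MulAut.congr, MulAut.conj_apply]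
  refine ⟨MulAut.conj (e.symm s), ⟨_, rfl⟩, MulAut.conj (e.symm t), ⟨_, rfl⟩, ?_⟩
  have h2 : (closure ({x * MulAut.conj (e.symm s), y * MulAut.conj (e.symm t)} : Set (MulAut S))).map
      (MulAut.congr e).toMonoidHom = closure ({MulAut.congr e x * MulAut.conj s, MulAut.congr e y * MulAut.conj t} :
        Set (MulAut T)) := by
    rw [MonoidHom.map_closure, Set.image_pair]
    change closure ({MulAut.congr e (x * MulAut.conj (e.symm s)), MulAut.congr e (y * MulAut.conj (e.symm t))} :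
      Set (MulAut T)) = _
    rw [map_mul, map_mul, key, key, e.apply_symm_apply, e.apply_symm_apply]
  rintro _ ⟨a, rfl⟩
  have h3 := hle ⟨e a, rfl⟩
  rw [← key, ← h2] at h3
  obtain ⟨b, hb, hb2⟩ := h3
  have h4 : b = MulAut.conj a := (MulAut.congr e).injective hb2
  rwa [h4] at hb

section even

variable {F : Type v} [Field F] [Fintype F] [CharP F 2]

/-- Every automorphism of `PSp_4(2^f)` is a product of a power of the graph automorphism and an inner
automorphism. -/
theorem exists_gamma_pow (y : MulAut (PSp 2 F)) :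
    ∃ k : ℕ, (gamma F ^ k)⁻¹ * y ∈ (MulAut.conj : PSp 2 F →* MulAut (PSp 2 F)).range := by
  obtain ⟨f, hF⟩ : ∃ f : ℕ, Fintype.card F = 2 ^ f := by
    obtain ⟨n, -, hn⟩ := FiniteField.card F 2
    exact ⟨n, hn⟩
  have hf : 1 ≤ f := by
    have h1 : 1 < Fintype.card F := Fintype.one_lt_card
    rcases Nat.eq_zero_or_pos f with rfl | h
    · rw [hF, pow_zero] at h1
      omega
    · exact h
  have hfin : Finite (PSp 2 F) := Finite.of_surjective _ (QuotientGroup.mk_surjective
    (s := Subgroup.center (Matrix.symplecticGroup (Fin 2) F)))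
  have hfinA : Finite (MulAut (PSp 2 F)) :=
    Finite.of_injective (fun α : MulAut (PSp 2 F) => (α : PSp 2 F → PSp 2 F))
      (fun α β h => MulEquiv.ext fun x => congrFun h x)
  have hfinO : Finite (Cfsg.Out (PSp 2 F)) := inferInstance
  set g : Cfsg.Out (PSp 2 F) := QuotientGroup.mk (gamma F) with hg
  have hdvd : 2 * f ∣ orderOf g := by
    have h1 : gamma F ^ (orderOf g) ∈ Cfsg.Inn (PSp 2 F) := by
      rw [← QuotientGroup.eq_one_iff, QuotientGroup.mk_pow]
      exact pow_orderOf_eq_one g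
    rcases Nat.even_or_odd' (orderOf g) with ⟨j, hj | hj⟩
    · rw [hj] at h1 ⊢
      exact Nat.mul_dvd_mul_left 2 (Cfsg.Agent.H183.OutSp4.dvd_of_pow_eq hf hF
        (fun t => Cfsg.Agent.H183.OutSp4.pow_eq_of_inn h1 t))
    · exfalso
      rw [hj] at h1
      exact Cfsg.Agent.H183.OutSp4.gamma_pow_odd_not_inn j h1
  have hcard := (Cfsg.Agent.H183.OutSp4.out_psp4 hf hF).2
  have htop : zpowers g = ⊤ := by
    apply Subgroup.eq_top_of_card_eq
    rw [Nat.card_zpowers, hcard]
    exact le_antisymm (by rw [← hcard]; exact Nat.le_of_dvd Nat.card_pos (orderOf_dvd_natCard g))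
      (Nat.le_of_dvd (orderOf_pos g) hdvd)
  have h1 : (QuotientGroup.mk y : Cfsg.Out (PSp 2 F)) ∈ Submonoid.powers g := by
    rw [mem_powers_iff_mem_zpowers, htop]
    exact mem_top _
  obtain ⟨k, hk⟩ := h1
  refine ⟨k, ?_⟩
  have h2 : (QuotientGroup.mk (gamma F ^ k) : Cfsg.Out (PSp 2 F)) = QuotientGroup.mk y := hk
  exact QuotientGroup.eq.1 h2

/-- `Cos2` for `PSp_4(2^f)`, `f ≥ 2`. -/
theorem cos2_psp4 (h3 : 3 ≤ Fintype.card F) : Cos2 (PSp 2 F) := by
  have hfin : Finite (PSp 2 F) := Finite.of_surjective _ (QuotientGroup.mk_surjective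
    (s := Subgroup.center (Matrix.symplecticGroup (Fin 2) F)))
  have hfinA : Finite (MulAut (PSp 2 F)) :=
    Finite.of_injective (fun α : MulAut (PSp 2 F) => (α : PSp 2 F → PSp 2 F))
      (fun α β h => MulEquiv.ext fun x => congrFun h x)
  have hfinO : Finite (Cfsg.Out (PSp 2 F)) := inferInstance
  have hcyc : IsCyclic (Cfsg.Out (PSp 2 F)) := by
    obtain ⟨n, -, hn⟩ := FiniteField.card F 2
    exact (Cfsg.Agent.H183.OutSp4.out_psp4 n.2 hn).1
  refine cos2_of_ker (QuotientGroup.mk' (Cfsg.Inn (PSp 2 F))) ?_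
  intro x y hx
  have hx' : x ∈ (MulAut.conj : PSp 2 F →* MulAut (PSp 2 F)).range := (QuotientGroup.eq_one_iff x).1 hx
  obtain ⟨k, hk⟩ := exists_gamma_pow y
  have hN := inn_normal (PSp 2 F)
  refine Lift.congr (x := 1) (y := gamma F ^ k) ?_ ?_ ?_
  · rw [mul_one]
    exact inv_mem hx'
  · have := inv_mem hk
    rwa [mul_inv_rev, inv_inv] at this
  set cj : Matrix.symplecticGroup (Fin 2) F →* MulAut (PSp 2 F) :=
    (MulAut.conj : PSp 2 F →* MulAut (PSp 2 F)).comp
      (QuotientGroup.mk' (Subgroup.center (Matrix.symplecticGroup (Fin 2) F))) with hcj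
  have hr : cj.range = (MulAut.conj : PSp 2 F →* MulAut (PSp 2 F)).range := by
    rw [hcj, MonoidHom.range_comp, MonoidHom.range_eq_top.2 (QuotientGroup.mk'_surjective _),
      ← MonoidHom.range_eq_map]
  have hγ : ∀ A, gamma F * cj A * (gamma F)⁻¹ = cj (graphHom F A) := by
    intro A
    apply MulEquiv.ext
    intro z
    change gamma F (QuotientGroup.mk A * (gamma F)⁻¹ z * (QuotientGroup.mk A)⁻¹) =
      QuotientGroup.mk (graphHom F A) * z * (QuotientGroup.mk (graphHom F A))⁻¹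
    rw [map_mul, map_mul, map_inv, gamma_mk]
    have : gamma F ((gamma F)⁻¹ z) = z := MulEquiv.apply_symm_apply (gamma F) z
    rw [this]
  have hfinal : ∀ A B : Matrix.symplecticGroup (Fin 2) F,
      cj.range ≤ closure ({cj A, cj B * gamma F ^ k} : Set (MulAut (PSp 2 F))) →
      Lift (MulAut.conj : PSp 2 F →* MulAut (PSp 2 F)).range 1 (gamma F ^ k) := by
    intro A B h
    refine ⟨cj A, ⟨_, rfl⟩, (gamma F ^ k)⁻¹ * cj B * gamma F ^ k, ?_, ?_⟩
    · have := hN.conj_mem (cj B) ⟨_, rfl⟩ (gamma F ^ k)⁻¹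
      rwa [inv_inv] at this
    · rw [one_mul, ← hr]
      have e : gamma F ^ k * ((gamma F ^ k)⁻¹ * cj B * gamma F ^ k) = cj B * gamma F ^ k := by group
      rwa [e]
  rcases Nat.even_or_odd' k with ⟨j, rfl | rfl⟩
  · obtain ⟨A, B, h⟩ := even_case cj (gamma F) h3 hγ j
    exact hfinal A B h
  · obtain ⟨A, B, h⟩ := odd_case cj (gamma F) h3 hγ j
    exact hfinal A B h

/-- Row C7 of S4180. -/
theorem cos2_psp4_even {T : Type u} [Group T] (h3 : 3 ≤ Fintype.card F) (e : Nonempty (T ≃* PSp 2 F)) : Cos2 T := by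
  obtain ⟨e⟩ := e
  exact cos2_equiv e (cos2_psp4 h3)

end even

/-- The same, with `Even (Fintype.card F)` in place of `CharP F 2`. -/
theorem cos2_psp4_even' {T : Type u} [Group T] (F : Type v) [Field F] [Fintype F] (hev : Even (Fintype.card F))
    (h3 : 3 ≤ Fintype.card F) (e : Nonempty (T ≃* PSp 2 F)) : Cos2 T := by
  obtain ⟨p, hp⟩ := CharP.exists F
  have hpp : Fact p.Prime := ⟨CharP.char_is_prime F p⟩
  obtain ⟨n, -, hn⟩ := FiniteField.card F p
  have h2 : p = 2 := by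
    rw [hn] at hev
    have h4 : 2 ∣ p := Nat.prime_two.dvd_of_dvd_pow hev.two_dvd
    exact ((Nat.prime_dvd_prime_iff_eq Nat.prime_two hpp.out).1 h4).symm
  subst h2
  exact cos2_psp4_even h3 e

end Cfsg.Agent.H875.DG.Sp4Even
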